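import Groth.Agent.HomAffLib.Main
import Groth.Agent.RedRankLib.Fam
import Groth.Prelude.Def_GmPts
import Groth.Prelude.Def_WeilRes

/-!
# The group scheme representing the units of a scheme with finite global functions
-/

set_option autoImplicit false
set_option linter.all false
set_option backward.isDefEq.respectTransparency false
set_option backward.isDefEq.respectTransparency.types false
set_option maxHeartbeats 800000

noncomputable section

universe u

open CategoryTheory CategoryTheory.Limits MonoidalCategory CartesianMonoidalCategory AlgebraicGeometry Opposite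
open scoped MonObj

namespace Groth.Agent.PushGmTor

variable {k : Type u} [Field k] {X : Scheme.{u}} (f : X ⟶ Spec (CommRingCat.of k))

local notation "B" => Spec (CommRingCat.of k)

/-- The two models of the base change. -/
def sig (T : Over B) : ((Over.pullback f).obj T).left ≅ (Over.mk f ⊗ T).left := pullbackSymmetry T.hom f

theorem sig_natural {T' T : Over B} (g : T' ⟶ T) :
    ((Over.pullback f).map g).left ≫ (sig f T).hom = (sig f T').hom ≫ (Over.mk f ◁ g).left := by
  apply pullback.hom_ext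
  · simp [sig]
    rw [show (Over.mk f ◁ g).left ≫ pullback.fst f T.hom = pullback.fst f T'.hom from
      Over.whiskerLeft_left_fst (R := Over.mk f) g]
    exact (pullbackSymmetry_hom_comp_fst _ _).symm
  · simp [sig]
    rw [show (Over.mk f ◁ g).left ≫ pullback.snd f T.hom = pullback.snd f T'.hom ≫ g.left from
      Over.whiskerLeft_left_snd (R := Over.mk f) g]
    exact (pullbackSymmetry_hom_comp_snd_assoc _ _ _).symm

/-- Pullback of units. -/
def upull {Y Z : Scheme.{u}} (g : Y ⟶ Z) : (Γ(Z, ⊤))ˣ →* (Γ(Y, ⊤))ˣ :=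
  Units.map (g.appTop.hom : Γ(Z, ⊤) →* Γ(Y, ⊤))

theorem upull_comp {Y Y' Z : Scheme.{u}} (g : Y ⟶ Y') (h : Y' ⟶ Z) (x : (Γ(Z, ⊤))ˣ) :
    upull (g ≫ h) x = upull g (upull h x) :=
  Units.ext (GmPts.appTop_comp_apply g h _)

theorem upull_id {Y : Scheme.{u}} (x : (Γ(Y, ⊤))ˣ) : upull (𝟙 Y) x = x :=
  Units.ext rfl

theorem unitOfPt_comp' {S : Scheme.{u}} {T' T : Over S} (g : T' ⟶ T) (t : T ⟶ Red.Gm S) :
    GmPts.unitOfPt (g ≫ t) = upull g.left (GmPts.unitOfPt t) := GmPts.unitOfPt_comp g t

instance : IsAffine (Red.Gm B).left := by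
  haveI : IsAffine (Red.diag (ULift.{u} ℤ) ℤ).left :=
    inferInstanceAs (IsAffine (Spec (CommRingCat.of (MonoidAlgebra (ULift.{u} ℤ) (Multiplicative ℤ)))))
  exact inferInstanceAs (IsAffine (pullback (Red.diag (ULift.{u} ℤ) ℤ).hom (GmPts.toBaseZ B)))

/-- A scheme representing units of the products, with a universal unit. -/
structure Model where
  M : Over B
  aff : IsAffine M.left
  ev : Over.mk f ⊗ M ⟶ Red.Gm B
  univ : ∀ (S : Over B) (a : Over.mk f ⊗ S ⟶ Red.Gm B), ∃! g : S ⟶ M, (Over.mk f ◁ g) ≫ ev = a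

theorem nonempty_model [CompactSpace X] [Module.Finite k (Groth.Agent.HomAff.Gam (Over.mk f))] :
    Nonempty (Model f) := by
  haveI : CompactSpace (Over.mk f).left := inferInstanceAs (CompactSpace X)
  obtain ⟨M, hM, ev, h, -⟩ := Groth.Agent.HomAff.main (Over.mk f) (Red.Gm B)
  exact ⟨⟨M, hM, ev, h⟩⟩

variable {f} (D : Model f)

/-- The counit of the Weil restriction. -/
def Model.q : Red.bc f D.M ⟶ Red.Gm X :=
  GmPts.ptOfUnit (upull (sig f D.M).hom (GmPts.unitOfPt D.ev))

/-- The unit attached to a point. -/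
def Model.unit {T : Over B} (g : T ⟶ D.M) : (Γ((Over.mk f ⊗ T).left, ⊤))ˣ :=
  GmPts.unitOfPt ((Over.mk f ◁ g) ≫ D.ev)

theorem Model.unit_restr {T : Over B} (g : T ⟶ D.M) :
    GmPts.unitOfPt (WeilRes.restr f D.q T g) = upull (sig f T).hom (D.unit g) := by
  rw [WeilRes.restr, unitOfPt_comp', Model.q, GmPts.unitOfPt_ptOfUnit, Model.unit, unitOfPt_comp', ← upull_comp,
    ← upull_comp, sig_natural]

theorem upull_sig_injective (T : Over B) : Function.Injective (upull (sig f T).hom) := fun a b h => by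
  have := congrArg (upull (sig f T).inv) h
  rwa [← upull_comp, ← upull_comp, Iso.inv_hom_id, upull_id, upull_id] at this

theorem Model.unit_bijective (T : Over B) : Function.Bijective (fun g : T ⟶ D.M => D.unit g) := by
  refine ⟨fun g h e => (D.univ T _).unique rfl (((GmPts.equiv _).injective e).symm), fun v => ?_⟩
  obtain ⟨g, hg, -⟩ := D.univ T (GmPts.ptOfUnit v)
  exact ⟨g, by show GmPts.unitOfPt _ = v; rw [hg, GmPts.unitOfPt_ptOfUnit]⟩

theorem Model.isWeilRes : WeilRes.IsWeilRes f (Red.Gm X) D.M D.q := by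
  intro T
  refine ⟨fun g h e => (D.unit_bijective T).1 (upull_sig_injective T ?_), fun a => ?_⟩
  · rw [← D.unit_restr, ← D.unit_restr, e]
  · obtain ⟨g, hg⟩ := (D.unit_bijective T).2 (upull (sig f T).inv (GmPts.unitOfPt a))
    refine ⟨g, (GmPts.equiv _).injective ?_⟩
    show GmPts.unitOfPt _ = GmPts.unitOfPt a
    rw [D.unit_restr, show D.unit g = _ from hg, ← upull_comp, Iso.hom_inv_id, upull_id]

/-- The functor of points with its group structure. -/
def ptsFun (f : X ⟶ B) : (Over B)ᵒᵖ ⥤ GrpCat.{u} := (Over.pullback f).op ⋙ yonedaGrpObj (Red.Gm X)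

/-- The representing isomorphism. -/
def Model.rep : (ptsFun f ⋙ forget _).RepresentableBy D.M where
  homEquiv {T} := Equiv.ofBijective (WeilRes.restr f D.q T) (D.isWeilRes T)
  homEquiv_comp t g := WeilRes.restr_comp f D.q t g

instance Model.grpObj : GrpObj D.M := GrpObj.ofRepresentableBy D.M (ptsFun f) D.rep

theorem Model.restr_mul' {T : Over B} (g h : T ⟶ D.M) :
    WeilRes.restr f D.q T (g * h) = WeilRes.restr f D.q T g * WeilRes.restr f D.q T h :=
  ((yonedaGrpObjIsoOfRepresentableBy D.M (ptsFun f) D.rep).hom.app (op T)).hom.map_mul g h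

theorem isMonHom_of_restr_mul {R : Over B} [GrpObj R] {G' : Over X} [GrpObj G'] (q : Red.bc f R ⟶ G')
    (hq : ∀ (T : Over B) (g h : T ⟶ R), WeilRes.restr f q T (g * h) = WeilRes.restr f q T g * WeilRes.restr f q T h) :
    IsMonHom q := by
  refine Groth.Agent.RedRank.isMonHom_of_mul q fun Y a b => ?_
  let c := CartesianMonoidalCategory.prodComparison (Over.pullback f) R R
  haveI : IsIso c := inferInstanceAs (IsIso (CartesianMonoidalCategory.prodComparison (Over.pullback f) R R))
  obtain ⟨p, hp⟩ : ∃ p : Y ⟶ (Over.pullback f).obj (R ⊗ R), p = lift a b ≫ inv c := ⟨_, rfl⟩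
  have ha : p ≫ (Over.pullback f).map (fst R R) = a := by
    rw [hp, Category.assoc, ← CartesianMonoidalCategory.prodComparison_fst, IsIso.inv_hom_id_assoc, lift_fst]
  have hb : p ≫ (Over.pullback f).map (snd R R) = b := by
    rw [hp, Category.assoc, ← CartesianMonoidalCategory.prodComparison_snd, IsIso.inv_hom_id_assoc, lift_snd]
  rw [← ha, ← hb, ← MonObj.comp_mul, ← CategoryTheory.Functor.map_mul, Category.assoc, Category.assoc,
    Category.assoc, ← MonObj.comp_mul]
  exact congrArg (p ≫ ·) (hq _ (fst R R) (snd R R))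

instance Model.isMonHom_q : IsMonHom D.q := isMonHom_of_restr_mul D.q fun _ g h => D.restr_mul' g h

theorem Model.unit_mul {T : Over B} (g h : T ⟶ D.M) : D.unit (g * h) = D.unit g * D.unit h := by
  refine upull_sig_injective T ?_
  rw [map_mul, ← D.unit_restr, ← D.unit_restr, ← D.unit_restr, D.restr_mul', GmPts.unitOfPt_mul]

theorem Model.unit_comp {T' T : Over B} (t : T' ⟶ T) (g : T ⟶ D.M) :
    D.unit (t ≫ g) = upull (Over.mk f ◁ t).left (D.unit g) := by
  rw [Model.unit, Model.unit, MonoidalCategory.whiskerLeft_comp, Category.assoc, unitOfPt_comp']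

theorem Model.isCommMonObj : IsCommMonObj D.M := by
  refine ⟨?_⟩
  refine (D.unit_bijective _).1 ?_
  show D.unit _ = D.unit _
  rw [MonObj.mul_eq_mul, MonObj.comp_mul, D.unit_mul, D.unit_mul, _root_.mul_comm]
  simp

end Groth.Agent.PushGmTor

end
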