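import Groth.Agent.PushGmTorLib.Rep
import Groth.Agent.MultSubLib.Chars
import Mathlib.RingTheory.Etale.Field
import Mathlib.LinearAlgebra.TensorProduct.Pi

/-!
# Splitting of the units of a finite étale algebra over an algebraically closed field
-/

set_option autoImplicit false
set_option linter.all false
set_option backward.isDefEq.respectTransparency false
set_option backward.isDefEq.respectTransparency.types false
set_option maxHeartbeats 1600000
set_option synthInstance.maxHeartbeats 400000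

noncomputable section

universe u

open CategoryTheory CategoryTheory.Limits MonoidalCategory CartesianMonoidalCategory AlgebraicGeometry Opposite
open scoped MonObj TensorProduct

namespace Groth.Agent.PushGmTor

section algebra

variable (k : Type u) [Field k] (A : Type u) [CommRing A] [Algebra k A] (K : Type u) [Field K] [Algebra k K]

theorem exists_split [Algebra.Etale k A] [IsSepClosed K] :
    ∃ n : ℕ, Nonempty ((K ⊗[k] A) ≃ₐ[K] (Fin n → K)) := by
  haveI : Algebra.Etale K (K ⊗[k] A) := inferInstance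
  haveI := Algebra.FormallyUnramified.finite_of_free K (K ⊗[k] A)
  haveI : IsArtinianRing (K ⊗[k] A) := isArtinian_of_tower K inferInstance
  haveI : Finite (PrimeSpectrum (K ⊗[k] A)) :=
    Finite.of_equiv _ (IsArtinianRing.primeSpectrumEquivMaximalSpectrum (R := K ⊗[k] A)).symm
  exact ⟨_, ⟨(Algebra.FormallyEtale.equivPiOfIsSepClosed K (K ⊗[k] A)).trans
    (AlgEquiv.piCongrLeft K (fun _ => K) (Finite.equivFin _))⟩⟩

variable {k A K} {n : ℕ} (e : (K ⊗[k] A) ≃ₐ[K] (Fin n → K))

variable (R : Type u) [CommRing R] [Algebra k R] [Algebra K R] [IsScalarTower k K R]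

/-- Evaluation at the points. -/
def evA (i : Fin n) : A →ₐ[k] R :=
  (((Algebra.ofId K R).comp ((Pi.evalAlgHom K (fun _ : Fin n => K) i).comp e.toAlgHom)).restrictScalars k).comp
    Algebra.TensorProduct.includeRight

theorem evA_apply (i : Fin n) (a : A) : evA e R i a = algebraMap K R (e (1 ⊗ₜ a) i) := rfl

/-- The splitting homomorphism. -/
def phi : A ⊗[k] R →ₐ[k] (Fin n → R) :=
  Pi.algHom k (fun _ : Fin n => R) fun i =>
    Algebra.TensorProduct.lift (evA e R i) (AlgHom.id k R) fun _ _ => Commute.all _ _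

theorem phi_tmul (a : A) (r : R) (i : Fin n) : phi e R (a ⊗ₜ r) i = algebraMap K R (e (1 ⊗ₜ a) i) * r := by
  simp [phi, evA_apply]

theorem phi_bijective : Function.Bijective (phi e R) := by
  classical
  let I : A ⊗[k] R ≃ (Fin n → R) :=
    ((TensorProduct.comm k A R).toEquiv.trans
      ((Algebra.TensorProduct.cancelBaseChange k K K R A).symm.toLinearEquiv.toEquiv.trans
      ((TensorProduct.congr (LinearEquiv.refl K R) e.toLinearEquiv).toEquiv.trans
        (TensorProduct.piScalarRight K K R (Fin n)).toEquiv)))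
  have h : ⇑(phi e R) = ⇑I := by
    funext x
    induction x with
    | zero => simp [I]
    | tmul a r =>
      funext i
      rw [phi_tmul]
      simp [I, Algebra.smul_def]
    | add x y hx hy =>
      rw [map_add, hx, hy]
      simp [I]
  rw [h]
  exact I.bijective

theorem phi_natural {R' : Type u} [CommRing R'] [Algebra k R'] [Algebra K R'] [IsScalarTower k K R']
    (g : R →ₐ[K] R') (x : A ⊗[k] R) (i : Fin n) :
    phi e R' (Algebra.TensorProduct.map (AlgHom.id k A) (g.restrictScalars k) x) i = g (phi e R x i) := by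
  induction x with
  | zero => simp
  | tmul a r => simp [phi_tmul]
  | add x y hx hy => simp [map_add, hx, hy]

end algebra

section torus

variable {S : Scheme.{u}} {n : ℕ}

/-- The character attached to a tuple of units. -/
def zhom {G : Type u} [CommGroup G] (u : Fin n → G) : Multiplicative (Fin n → ℤ) →* G :=
  MonoidHom.mk' (fun v => ∏ i, u i ^ (Multiplicative.toAdd v i)) fun v w => by
    simp [zpow_add, Finset.prod_mul_distrib]

/-- The point attached to a tuple of units. -/
def tuplePt (Y : Over S) (u : Fin n → (Γ(Y.left, ⊤))ˣ) : Y ⟶ Red.DS S (Fin n → ℤ) :=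
  DSPtsLib.dsPt ((Units.coeHom _).comp (zhom u))

theorem tuplePt_mul (Y : Over S) (u v : Fin n → (Γ(Y.left, ⊤))ˣ) : tuplePt Y (u * v) = tuplePt Y u * tuplePt Y v := by
  rw [tuplePt, tuplePt, tuplePt, ← DSPtsLib.dsPt_mul]
  congr 1
  refine MonoidHom.ext fun x => ?_
  simp [zhom, mul_zpow, Finset.prod_mul_distrib]

theorem tuplePt_natural {Y' Y : Over S} (t : Y' ⟶ Y) (u : Fin n → (Γ(Y.left, ⊤))ˣ) :
    t ≫ tuplePt Y u = tuplePt Y' (fun i => upull t.left (u i)) := by
  rw [tuplePt, tuplePt, DSPtsLib.dsPt_natural]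
  congr 1
  refine MonoidHom.ext fun x => ?_
  simp [zhom, upull, map_prod, ← map_zpow]

theorem tuplePt_bijective (Y : Over S) : Function.Bijective (tuplePt (n := n) Y) := by
  classical
  refine ⟨fun u v h => funext fun i => ?_, fun h => ?_⟩
  · have h1 := (DSPtsLib.dsPt_bijective (M := Fin n → ℤ) Y).1 h
    have h2 := DFunLike.congr_fun h1 (Multiplicative.ofAdd (Pi.single i (1 : ℤ)))
    simp [zhom, Finset.prod_eq_single i, Pi.single_apply] at h2
    exact Units.ext h2
  · obtain ⟨χ, rfl⟩ := (DSPtsLib.dsPt_bijective (M := Fin n → ℤ) Y).2 h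
    refine ⟨fun i => χ.toHomUnits (Multiplicative.ofAdd (Pi.single i 1)), ?_⟩
    rw [tuplePt]
    congr 1
    refine MonoidHom.ext fun x => ?_
    have hx : x = ∏ i, (Multiplicative.ofAdd (Pi.single i (1 : ℤ) : Fin n → ℤ)) ^ (Multiplicative.toAdd x i) := by
      apply Multiplicative.toAdd.injective
      simp [toAdd_prod, ← Pi.single_smul, Finset.univ_sum_single]
    conv_rhs => rw [hx, ← MonoidHom.coe_toHomUnits, map_prod]
    simp [zhom, map_zpow]

end torus

variable {k : Type u} [Field k] {X : Scheme.{u}} (f : X ⟶ Spec (CommRingCat.of k))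
  {K : Type u} [Field K] [Algebra k K] {n : ℕ}
  (e : (K ⊗[k] Groth.Agent.HomAff.Gam (Over.mk f)) ≃ₐ[K] (Fin n → K))

local notation "c" => Spec.map (CommRingCat.ofHom (algebraMap k K))

/-- The underlying scheme over the small field. -/
abbrev dn (Y : Over (Spec (CommRingCat.of K))) : Over (Spec (CommRingCat.of k)) := (Over.map c).obj Y

instance (Y : Over (Spec (CommRingCat.of K))) : Algebra K (Groth.Agent.HomAff.Gam (dn (k := k) Y)) :=
  (Y.hom.appTop.hom.comp (Scheme.ΓSpecIso (CommRingCat.of K)).inv.hom).toAlgebra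

instance (Y : Over (Spec (CommRingCat.of K))) : IsScalarTower k K (Groth.Agent.HomAff.Gam (dn (k := k) Y)) :=
  IsScalarTower.of_algebraMap_eq fun r => by
    show (Y.hom ≫ c).appTop.hom ((Scheme.ΓSpecIso (CommRingCat.of k)).inv r) =
      Y.hom.appTop.hom ((Scheme.ΓSpecIso (CommRingCat.of K)).inv (algebraMap k K r))
    rw [Scheme.Hom.comp_appTop]
    show Y.hom.appTop.hom ((Spec.map (CommRingCat.ofHom (algebraMap k K))).appTop
      ((Scheme.ΓSpecIso (CommRingCat.of k)).inv r)) = _
    congr 1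
    exact (congrArg (fun z => z r) (Scheme.ΓSpecIso_inv_naturality (CommRingCat.ofHom (algebraMap k K)))).symm

variable {f} [CompactSpace X]

/-- Units of the product as tuples. -/
def unitsSplit (Y : Over (Spec (CommRingCat.of K))) [IsAffine Y.left] :
    (Γ((Over.mk f ⊗ dn (k := k) Y).left, ⊤))ˣ ≃* (Fin n → (Γ(Y.left, ⊤))ˣ) :=
  haveI : CompactSpace (Over.mk f).left := inferInstanceAs (CompactSpace X)
  haveI : IsAffine (dn (k := k) Y).left := inferInstanceAs (IsAffine Y.left)
  (Units.mapEquiv ((AlgEquiv.ofBijective _ (Groth.Agent.HomAff.theta_bijective (Over.mk f) (dn (k := k) Y))).symm.trans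
    (AlgEquiv.ofBijective _ (phi_bijective e (Groth.Agent.HomAff.Gam (dn (k := k) Y))))).toMulEquiv).trans
      MulEquiv.piUnits

theorem unitsSplit_natural {Y' Y : Over (Spec (CommRingCat.of K))} [IsAffine Y'.left] [IsAffine Y.left] (t : Y' ⟶ Y)
    (x : (Γ((Over.mk f ⊗ dn (k := k) Y).left, ⊤))ˣ) (i : Fin n) :
    unitsSplit e Y' (upull (Over.mk f ◁ (Over.map c).map t).left x) i = upull t.left (unitsSplit e Y x i) := by
  haveI : CompactSpace (Over.mk f).left := inferInstanceAs (CompactSpace X)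
  haveI : IsAffine (dn (k := k) Y).left := inferInstanceAs (IsAffine Y.left)
  haveI : IsAffine (dn (k := k) Y').left := inferInstanceAs (IsAffine Y'.left)
  let g : Groth.Agent.HomAff.Gam (dn (k := k) Y) →ₐ[K] Groth.Agent.HomAff.Gam (dn (k := k) Y') :=
    { t.left.appTop.hom with
      commutes' := fun r => by
        show t.left.appTop (Y.hom.appTop ((Scheme.ΓSpecIso (CommRingCat.of K)).inv r)) =
          Y'.hom.appTop ((Scheme.ΓSpecIso (CommRingCat.of K)).inv r)
        rw [← Over.w t, Scheme.Hom.comp_appTop]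
        rfl }
  let gk : Groth.Agent.HomAff.Gam (dn (k := k) Y) →ₐ[k] Groth.Agent.HomAff.Gam (dn (k := k) Y') :=
    Groth.Agent.HomAff.gmap ((Over.map c).map t)
  have hg : g.restrictScalars k = gk := AlgHom.ext fun x => rfl
  refine Units.ext ?_
  obtain ⟨y, hy⟩ := (Groth.Agent.HomAff.theta_bijective (Over.mk f) (dn (k := k) Y)).2 x.val
  let θ := AlgEquiv.ofBijective _ (Groth.Agent.HomAff.theta_bijective (Over.mk f) (dn (k := k) Y))
  let θ' := AlgEquiv.ofBijective _ (Groth.Agent.HomAff.theta_bijective (Over.mk f) (dn (k := k) Y'))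
  have h0 : θ.symm x.val = y := θ.injective ((θ.apply_symm_apply _).trans hy.symm)
  have h1 : (unitsSplit e Y x i : Γ(Y.left, ⊤)) = phi e (Groth.Agent.HomAff.Gam (dn (k := k) Y)) y i :=
    congrArg (fun z => phi e (Groth.Agent.HomAff.Gam (dn (k := k) Y)) z i) h0
  show phi e _ (θ'.symm ((Over.mk f ◁ (Over.map c).map t).left.appTop x.val)) i =
    g (unitsSplit e Y x i : Γ(Y.left, ⊤))
  rw [h1, ← phi_natural]
  refine congrArg (fun z => phi e (Groth.Agent.HomAff.Gam (dn (k := k) Y')) z i) (θ'.injective ?_)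
  refine (θ'.apply_symm_apply _).trans ?_
  refine ((congrArg (Groth.Agent.HomAff.gmap (Over.mk f ◁ (Over.map c).map t)) hy).symm.trans
    (DFunLike.congr_fun (Groth.Agent.HomAff.theta_natural (Over.mk f) ((Over.map c).map t)) y)).trans ?_
  rw [hg]
  rfl

variable (D : Model f)

local notation "MK" => Red.bc c D.M

/-- Points over the large field as tuples of units. -/
def psi (Y : Over (Spec (CommRingCat.of K))) [IsAffine Y.left] (b : Y ⟶ MK) : Fin n → (Γ(Y.left, ⊤))ˣ :=
  unitsSplit e Y (D.unit (((Over.mapPullbackAdj c).homEquiv Y D.M).symm b))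

theorem psi_bijective (Y : Over (Spec (CommRingCat.of K))) [IsAffine Y.left] : Function.Bijective (psi e D Y) :=
  (unitsSplit e Y).bijective.comp ((D.unit_bijective _).comp ((Over.mapPullbackAdj c).homEquiv Y D.M).symm.bijective)

theorem psi_natural {Y' Y : Over (Spec (CommRingCat.of K))} [IsAffine Y'.left] [IsAffine Y.left] (t : Y' ⟶ Y)
    (b : Y ⟶ MK) : psi e D Y' (t ≫ b) = fun i => upull t.left (psi e D Y b i) := by
  funext i
  rw [psi, psi, Adjunction.homEquiv_naturality_left_symm, D.unit_comp]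
  exact unitsSplit_natural e t _ i

theorem psi_mul (Y : Over (Spec (CommRingCat.of K))) [IsAffine Y.left] (b b' : Y ⟶ MK) :
    psi e D Y (b * b') = psi e D Y b * psi e D Y b' := by
  obtain ⟨p, rfl⟩ := ((Over.mapPullbackAdj c).homEquiv Y D.M).surjective b
  obtain ⟨p', rfl⟩ := ((Over.mapPullbackAdj c).homEquiv Y D.M).surjective b'
  have h : (Over.mapPullbackAdj c).homEquiv Y D.M p * (Over.mapPullbackAdj c).homEquiv Y D.M p' =
      (Over.mapPullbackAdj c).homEquiv Y D.M (p * p') := by
    simp only [Adjunction.homEquiv_unit, CategoryTheory.Functor.map_mul, MonObj.comp_mul]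
  rw [psi, psi, psi, h, Equiv.symm_apply_apply, Equiv.symm_apply_apply, Equiv.symm_apply_apply, D.unit_mul, map_mul]

instance (M : Type) [AddCommGroup M] : IsAffine (Red.DS (Spec (CommRingCat.of K)) M).left := by
  haveI : IsAffine (Red.diag (ULift.{u} ℤ) M).left :=
    inferInstanceAs (IsAffine (Spec (CommRingCat.of (MonoidAlgebra (ULift.{u} ℤ) (Multiplicative M)))))
  exact inferInstanceAs (IsAffine (pullback (Red.diag (ULift.{u} ℤ) M).hom (GmPts.toBaseZ _)))

include e in
theorem exists_iso_DS : ∃ φ : MK ≅ Red.DS (Spec (CommRingCat.of K)) (Fin n → ℤ), IsMonHom φ.hom := by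
  haveI := D.aff
  haveI : IsAffine (MK).left := inferInstanceAs (IsAffine (pullback D.M.hom c))
  let φ : MK ⟶ Red.DS (Spec (CommRingCat.of K)) (Fin n → ℤ) := tuplePt _ (psi e D _ (𝟙 _))
  obtain ⟨v, hv⟩ := (tuplePt_bijective (n := n) (Red.DS (Spec (CommRingCat.of K)) (Fin n → ℤ))).2 (𝟙 _)
  obtain ⟨ψ, hψ⟩ := (psi_bijective e D (Red.DS (Spec (CommRingCat.of K)) (Fin n → ℤ))).2 v
  have hφ : ∀ (Y : Over (Spec (CommRingCat.of K))) [IsAffine Y.left] (b : Y ⟶ MK),
      b ≫ φ = tuplePt Y (psi e D Y b) := fun Y _ b => by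
    show b ≫ tuplePt _ _ = _
    rw [tuplePt_natural, ← psi_natural, Category.comp_id]
  have h1 : ψ ≫ φ = 𝟙 _ := by rw [hφ, hψ, hv]
  have h2 : φ ≫ ψ = 𝟙 _ := by
    refine (psi_bijective e D MK).1 ((tuplePt_bijective MK).1 ?_)
    rw [← hφ, ← hφ, Category.assoc, h1, Category.comp_id, Category.id_comp]
  haveI : IsMonHom φ := by
    refine Groth.Agent.RedRank.isMonHom_of_mul φ fun Y a b => ?_
    haveI : IsAffine (MK ⊗ MK).left := inferInstanceAs (IsAffine (pullback (MK).hom (MK).hom))
    have h : (fst MK MK * snd MK MK) ≫ φ = (fst MK MK ≫ φ) * (snd MK MK ≫ φ) := by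
      rw [hφ, hφ, hφ, psi_mul, tuplePt_mul]
    calc (a * b) ≫ φ = lift a b ≫ (fst MK MK * snd MK MK) ≫ φ := by
          rw [MonObj.comp_mul_assoc, lift_fst, lift_snd]
      _ = (a ≫ φ) * (b ≫ φ) := by rw [h, MonObj.comp_mul, lift_fst_assoc, lift_snd_assoc]
  exact ⟨⟨φ, ψ, h2, h1⟩, inferInstanceAs (IsMonHom φ)⟩

end Groth.Agent.PushGmTor

end
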